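import Mathlib
import Cfsg.Agent.H588.SN.Abs
import Cfsg.Agent.H322.Rad3.Mathieu
import Cfsg.Agent.NotCT.Orders

/-!
# S3831: the rows of the Mathieu groups and `HS` (helper588)
-/

set_option autoImplicit false
set_option linter.unusedSectionVars false

namespace Cfsg.Agent.H588.SN

open Cfsg Cfsg.Agent Cfsg.Agent.SporadicA.GolayBase Cfsg.Agent.SporadicA.GolayPerm
open Cfsg.Agent.SporadicStructure.M24El Cfsg.Agent.H865.ListGroup
open Subgroup
open scoped Pointwise
open Cfsg.Agent.H21.SN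
open Cfsg.Agent.H51.Rad3 (Bad3)
open Cfsg.Agent.H322.RadM (chk p11 el_p11 inner_of_index fact3 L24 T24)

/-- the elements of order three of a subgroup of `M24` -/
theorem bad_of_list (X : Subgroup M24) (test : ℕ → Bool)
    (htest : ∀ P, ok P = true → test P = true → el P ∈ X) (L TL : List ℕ) (hL : chkGroup L = true) (hnd : L.Nodup)
    (hchk : chk test L TL = true) {k : ℕ} (hk : (Nat.card X).factorization 3 = k) (hcard : L.length = 3 ^ k)
    (a : X) (ha : orderOf a = 3) : Bad3 a := by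
  have h3 : Fact (Nat.Prime 3) := ⟨by norm_num⟩
  unfold chk at hchk
  simp only [Bool.and_eq_true, List.all_eq_true, List.any_eq_true, Bool.or_eq_true, Nat.beq_eq,
    Bool.not_eq_true'] at hchk
  obtain ⟨⟨hc1, hc2⟩, hc3⟩ := hchk
  have hok : ∀ P ∈ L, ok P = true := fun P hP => ((chkGroup_spec hL).1 P hP).1
  have hle : listGroup L hL ≤ X := by
    rintro _ ⟨P, hP, rfl⟩
    exact htest P (hok P hP) (hc1 P hP)
  let S0 : Subgroup X := (listGroup L hL).subgroupOf X
  have hS0 : Nat.card S0 = 3 ^ (Nat.card X).factorization 3 := by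
    rw [Nat.card_congr (subgroupOfEquivOfLe hle).toEquiv, card_listGroup hL hnd, hcard, hk]
  let S : Sylow 3 X := Sylow.ofCard S0 hS0
  have hpg : IsPGroup 3 (zpowers a) := IsPGroup.of_card (n := 1) (by rw [Nat.card_zpowers, ha, pow_one])
  obtain ⟨Q, hQ⟩ := hpg.exists_le_sylow
  obtain ⟨c, hc⟩ := MulAction.exists_smul_eq X Q S
  have hmem : c * a * c⁻¹ ∈ (S : Subgroup X) := by
    rw [← hc]
    exact ⟨a, hQ (mem_zpowers a), rfl⟩
  obtain ⟨P, hP, hP'⟩ : ((c * a * c⁻¹ : X) : M24) ∈ listGroup L hL := mem_subgroupOf.1 hmem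
  have hPid : P ≠ idP := by
    rintro rfl
    rw [el_idP] at hP'
    have h1 : c * a * c⁻¹ = 1 := Subtype.ext hP'
    rw [conj_eq_one_iff] at h1
    rw [h1, orderOf_one] at ha
    norm_num at ha
  obtain ⟨T, hT, ⟨hTn, hT1⟩, hT2⟩ := (hc3 P hP).resolve_left hPid
  obtain ⟨⟨hTok, hTt⟩, hTT⟩ := hc2 T hT
  have hokP := hok P hP
  have hTX := htest T hTok hTt
  set y : X := ⟨el T, hTX⟩ with hy
  have hyy : y * y = 1 := by
    apply Subtype.ext
    change el T * el T = 1
    rw [← el_pcomp hTok hTok, hTT, el_idP]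
  refine Bad3.of_conj c (Bad3.of_coprime (t := y) (n := 11) ?_ hyy (by norm_num) ?_ ?_)
  · rw [conj_pow, ← ha, pow_orderOf_eq_one, mul_one, mul_inv_cancel]
  · apply Subtype.ext
    change (((c * a * c⁻¹ : X) : M24) * el T) ^ 11 = 1
    rw [hP', ← el_pcomp hokP hTok, ← (el_p11 (ok_pcomp hokP hTok)).1, hT2, el_idP]
  · intro h
    have h1 : ((c * a * c⁻¹ : X) : M24) * el T = 1 := congrArg Subtype.val h
    rw [hP', ← el_pcomp hokP hTok] at h1
    have h2 : pcomp P T = idP := eq_of_el_eq (ok_pcomp hokP hTok) ok_idP hTn (by decide +kernel)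
      (by rw [h1, el_idP])
    rw [h2] at hT1
    exact absurd hT1 (by decide +kernel)

/-- every element of order three of `M24` is bad -/
theorem bad_m24 {K : Type*} [Group K] [Finite K] (h : Cfsg.Spor.IsoM24 K) (a : K) (ha : orderOf a = 3) :
    Bad3 a := by
  obtain ⟨e⟩ := h
  have hn : Nat.card M24 = 244823040 := NotCT.Orders.m24 (⟨MulEquiv.refl _⟩ : Cfsg.Spor.IsoM24 ↥M24)
  let X : Subgroup M24 := (⊤ : Subgroup M24)
  let f : K ≃* X := e.trans Subgroup.topEquiv.symm
  have hX : Nat.card X = 244823040 := by rw [Nat.card_congr Subgroup.topEquiv.toEquiv, hn]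
  refine Bad3.of_equiv f (bad_of_list X (fun _ => true) (fun P _ _ => mem_top _) L24 T24 (by decide +kernel)
    (by decide +kernel) (by decide +kernel) (k := 3) (by rw [hX]; exact fact3 (m := 9067520) (by norm_num) (by norm_num))
      (by decide +kernel) _ ?_)
  rw [MulEquiv.orderOf_eq, ha]

/-- **`M24`** -/
theorem g3_m24 {K : Type*} [Group K] [Finite K] [IsSimpleGroup K] (h : Cfsg.Spor.IsoM24 K) : G3 K := by
  have hn := NotCT.Orders.m24 h
  obtain ⟨e⟩ := id h
  let X : Subgroup M24 := (⊤ : Subgroup M24)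
  let f : K ≃* X := e.trans Subgroup.topEquiv.symm
  have hfin : Finite X := Finite.of_equiv K f.toEquiv
  have hX : Nat.card X = 244823040 := by rw [← Nat.card_congr f.toEquiv, hn]
  have hsim : IsSimpleGroup X := f.symm.isSimpleGroup
  have hZ : center X = ⊥ := center_bot (by rw [hX]; norm_num)
  refine G3.congr f (g3_of_inn hZ (fun x hx => ?_) (g3i_of_bad hZ ?_))
  · refine inner_of_index ?_ x hx
    rw [← H498.SporOut.index_congr f]
    exact H498.SporOut.index_le_two (Or.inr (Or.inr (Or.inr (Or.inr (Or.inl h)))))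
  · exact bad_of_list X (fun _ => true) (fun P _ _ => mem_top _) L24 T24 (by decide +kernel) (by decide +kernel)
      (by decide +kernel) (k := 3) (by rw [hX]; exact fact3 (m := 9067520) (by norm_num) (by norm_num))
      (by decide +kernel)

section

variable {K : Type*} [Group K] [Finite K] [IsSimpleGroup K]

theorem g3_m11 (h : Cfsg.Spor.IsoM11 K) : G3 K := g3_of_not27 (NotCT.Orders.m11 h) (by norm_num) (by norm_num)

theorem g3_m12 (h : Cfsg.Spor.IsoM12 K) : G3 K := by
  have hn := NotCT.Orders.m12 h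
  exact g3_of_noS3 (not_comm (by rw [hn]; norm_num))
    (noS3_of_dvd (by rw [hn]; norm_num) (by rw [hn]; norm_num) (by rw [hn]; norm_num))

theorem g3_m22 (h : Cfsg.Spor.IsoM22 K) : G3 K := g3_of_not27 (NotCT.Orders.m22 h) (by norm_num) (by norm_num)

theorem g3_m23 (h : Cfsg.Spor.IsoM23 K) : G3 K := g3_of_not27 (NotCT.Orders.m23 h) (by norm_num) (by norm_num)

theorem g3_j1 (h : Cfsg.Spor.IsoJ1 K) : G3 K := g3_of_not27 (NotCT.Orders.j1 h) (by norm_num) (by norm_num)

theorem g3_hs (h : Cfsg.Spor.IsoHS K) : G3 K := g3_of_not27 (NotCT.Orders.hs h) (by norm_num) (by norm_num)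

end

end Cfsg.Agent.H588.SN
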