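import Cfsg.Agent.H588.SN.Abs
import Cfsg.Agent.H487.SN.Psu
import Cfsg.Agent.R01.Fi22Facts

/-!
# `Fi22`: elements of order three commuting with a transposition (helper588, S3831)

`false_of_comm` : they have no `PS 2`: the centralizer of the transposition modulo the transposition is `PSU₆(2)`, where
an element of order three with `PS 2` would be a multiple of a reflection, which has not determinant one.
-/

set_option autoImplicit false

namespace Cfsg.Agent.H588.SN.FiT

open Cfsg Matrix
open Cfsg.Agent.LieClassical.HermBasic Cfsg.Agent.LieClassical.HermSiegel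
open Cfsg.Agent.ClassicalGeometry.PSUAutBasic
open Cfsg.Agent.UGT.U2.FOne.PSU (Rep)
open Cfsg.Agent.H459.Rad (PS)
open Cfsg.Agent.H21.SN (PS.pow PS.sec)
open Cfsg.Agent.H487.SN (IsRefl order_three)

section

variable {F : Type*} [Field F] {q n : ℕ}

theorem rep_conj (g : SU n F q) : Rep (MulAut.conj (pr n F q g)) (act g) (1 : F ≃+* F) where
  add := act_add g
  smul := act_smul g
  herm u v := herm_act g u v
  sur v := ⟨act g⁻¹ v, act_act_inv g v⟩
  lift g' := ⟨g * g' * g⁻¹, by rw [MulAut.conj_apply, map_mul, map_mul, map_inv], fun v => by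
    rw [act_mul, act_mul, act_inv_act]⟩

/-- no element of `SU₆(2)` is a multiple of a reflection -/
theorem not_isRefl [Fintype F] (hF : Fintype.card F = 2 ^ 2) (g : SU 6 F 2) : ¬ IsRefl (act g) := by
  rintro ⟨e, ζ, κ, he, hζ, hκ0, hκ1, h⟩
  have hm : mat g = ζ • (1 + replicateCol Unit (κ • e) * replicateRow Unit (fun i => e i ^ 2)) := by
    apply Matrix.ext_of_mulVec_single
    intro i
    have h1 := h (Pi.single i 1)
    unfold act at h1
    rw [h1]
    ext j
    simp only [Matrix.smul_mulVec, Matrix.add_mulVec, Matrix.one_mulVec, Pi.smul_apply, Pi.add_apply, smul_eq_mul]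
    congr 2
    rw [← Matrix.mulVec_mulVec]
    simp [Matrix.mulVec, dotProduct, hermForm, Pi.single_apply, replicateCol, replicateRow]
    ring
  have hdet : (mat g).det = 1 := det_mat g
  have hz : ζ ^ 3 = 1 := by have := Cfsg.Agent.H487.SN.cube hF hζ; rw [← this]; ring
  rw [hm, Matrix.det_smul, Matrix.det_one_add_replicateCol_mul_replicateRow, Fintype.card_fin] at hdet
  have h2 : (fun i => e i ^ 2) ⬝ᵥ (κ • e) = κ := by
    have : (fun i => e i ^ 2) ⬝ᵥ (κ • e) = κ * hermForm 6 F 2 e e := by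
      simp only [dotProduct, hermForm, Finset.mul_sum, Pi.smul_apply, smul_eq_mul]
      exact Finset.sum_congr rfl fun i _ => by ring
    rw [this, he, mul_one]
  rw [h2] at hdet
  have h3 : ζ ^ 6 = 1 := by
    calc ζ ^ 6 = (ζ ^ 3) ^ 2 := by ring
      _ = 1 := by rw [hz, one_pow]
  rw [h3, one_mul] at hdet
  exact hκ0 (by linear_combination hdet)

end

open Cfsg.Agent.R01.Fi22Facts Cfsg.Agent.R01.Lifts

/-- **elements of order three commuting with a transposition** -/
theorem false_of_comm {x d : Spor.Fi22} (hx : orderOf x = 3) (hP : PS 2 (MulAut.conj x)) (hd : d ∈ T)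
    (hc : Commute x d) : False := by
  have : Finite Spor.Fi22 := Nat.finite_of_card_ne_zero (by rw [card]; norm_num)
  have hF : Fintype.card Cfsg.Agent.SporRec.GF4.F4 = 2 ^ 2 := Cfsg.Agent.Fischer.Unit22.hF
  obtain ⟨π, lift, L, -⟩ := loc d hd
  have hxM : x ∈ Subgroup.centralizer ({d} : Set Spor.Fi22) := Subgroup.mem_centralizer_singleton_iff.2 hc.eq
  have hM : ∀ m ∈ Subgroup.centralizer ({d} : Set Spor.Fi22), MulAut.conj x m ∈
      Subgroup.centralizer ({d} : Set Spor.Fi22) := fun m hm => mul_mem (mul_mem hxM hm) (inv_mem hxM)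
  have hPu : PS 2 (MulAut.conj (π ⟨x, hxM⟩)) := by
    refine PS.sec hP hM π L.ext.surj _ fun m => ?_
    have h0 : MulAut.conj (π ⟨x, hxM⟩) (π m) = π (⟨x, hxM⟩ * m * ⟨x, hxM⟩⁻¹) := by
      rw [MulAut.conj_apply, map_mul, map_mul, map_inv]
    rw [h0]
    exact congrArg π (Subtype.ext rfl)
  obtain ⟨g, hg⟩ := pr_surjective (π ⟨x, hxM⟩)
  have hX : Rep (MulAut.conj (π ⟨x, hxM⟩)) (act g) 1 := by
    rw [← hg]; exact rep_conj g
  have hx3 : (⟨x, hxM⟩ : Subgroup.centralizer ({d} : Set Spor.Fi22)) ^ 3 = 1 := by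
    apply Subtype.ext
    show x ^ 3 = 1
    rw [← hx]; exact pow_orderOf_eq_one x
  have h3 : MulAut.conj (π ⟨x, hxM⟩) ^ 3 = 1 := by
    rw [← map_pow, ← map_pow, hx3, map_one, map_one]
  have h1 : MulAut.conj (π ⟨x, hxM⟩) ≠ 1 := by
    intro h1
    rw [h1] at hX
    obtain ⟨-, c, -, hc'⟩ := Cfsg.Agent.UGT.U2.FOne.PSU.Rep.of_one hF (by norm_num) hX
    have h2 : g ∈ Subgroup.center (SU 6 Cfsg.Agent.SporRec.GF4.F4 2) := by
      rw [Subgroup.mem_center_iff]
      intro k
      apply ext_act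
      intro v
      rw [act_mul, act_mul, hc', hc', act_smul]
    rw [← pr_eq_one_iff, hg] at h2
    rcases (L.ext.ker _).1 h2 with h4 | h4
    · have h5 : x = 1 := congrArg (fun z : Subgroup.centralizer ({d} : Set Spor.Fi22) => (z : Spor.Fi22)) h4
      rw [h5, orderOf_one] at hx
      omega
    · have h5 := L.ext.zz
      rw [← h4] at h5
      have h6 : x * x = 1 := congrArg (fun z : Subgroup.centralizer ({d} : Set Spor.Fi22) => (z : Spor.Fi22)) h5
      have h7 : orderOf x ∣ 2 := orderOf_dvd_of_pow_eq_one (by rw [pow_two, h6])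
      rw [hx] at h7
      omega
  exact not_isRefl hF g (order_three hF (by norm_num) hPu h3 h1 hX)

end Cfsg.Agent.H588.SN.FiT
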