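import Mathlib

/-!
# The trace argument for automorphisms of order three of strongly regular graphs (helper588, S3831)

`exists_fix_or_move` : an automorphism `σ` with `σ ^ 3 = 1` of a strongly regular graph has a fixed point or moves some
vertex to an adjacent one, if a number is not integral (the trace of a rational idempotent).
-/

set_option autoImplicit false

namespace Cfsg.Agent.H588.SN.Trace

open Matrix

section Alg

variable {R : Type*} [Ring R] [Algebra ℚ R]

theorem idem_E {A J : R} {a b m k n c r s : ℚ} (hAA : A * A = a • 1 + b • A + m • J) (hAJ : A * J = k • J)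
    (hJA : J * A = k • J) (hJJ : J * J = n • J) (hb : r + s = b) (ha : r * s = -a) (hc : c * n = k - s)
    (hm : m * n = (k - r) * (k - s)) (hn : n ≠ 0) (hrs : r - s ≠ 0) :
    ((r - s)⁻¹ • (A - s • 1 - c • J)) * ((r - s)⁻¹ • (A - s • 1 - c • J)) = (r - s)⁻¹ • (A - s • 1 - c • J) := by
  have h1 : (A - s • (1 : R) - c • J) * (A - s • (1 : R) - c • J) = (r - s) • (A - s • 1 - c • J) := by
    have e : (A - s • (1 : R) - c • J) * (A - s • (1 : R) - c • J) =
        A * A - (2 * s) • A - c • (A * J) - c • (J * A) + (s * s) • (1 : R) + (2 * s * c) • J + (c * c) • (J * J) := by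
      simp only [sub_mul, mul_sub, smul_mul_assoc, mul_smul_comm, one_mul, mul_one]
      module
    rw [e, hAA, hAJ, hJA, hJJ]
    have h2 : m - 2 * c * k + 2 * s * c + c * c * n = -(c * (r - s)) := by
      have h3 : n * (m - 2 * c * k + 2 * s * c + c * c * n) = n * (-(c * (r - s))) := by
        linear_combination hm + (-2 * k + 2 * s + c * n + k - s + r - s) * hc
      exact mul_left_cancel₀ hn h3
    have h4 : a + s * s = -(s * (r - s)) := by linear_combination ha * (-1) * (-1)
    have h5 : b - 2 * s = r - s := by linear_combination -hb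
    have : a • (1 : R) + b • A + m • J - (2 * s) • A - c • k • J - c • k • J + (s * s) • (1 : R) + (2 * s * c) • J +
        (c * c) • n • J = (a + s * s) • (1 : R) + (b - 2 * s) • A + (m - 2 * c * k + 2 * s * c + c * c * n) • J := by
      module
    rw [this, h2, h4, h5]
    module
  rw [smul_mul_smul_comm, h1, smul_smul]
  congr 1
  field_simp

theorem idem_F {P : R} (hP : P * P * P = 1) :
    ((3 : ℚ)⁻¹ • (1 + P + P * P)) * ((3 : ℚ)⁻¹ • (1 + P + P * P)) = (3 : ℚ)⁻¹ • (1 + P + P * P) := by
  have h1 : (1 + P + P * P) * (1 + P + P * P) = (3 : ℚ) • (1 + P + P * P) := by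
    have e : (1 + P + P * P) * (1 + P + P * P) = 1 + P + P + P * P + P * P + P * P + P * P * P + P * P * P + P * P * P * P := by
      noncomm_ring
    rw [e, hP, one_mul]
    module
  rw [smul_mul_smul_comm, h1, smul_smul]
  norm_num

end Alg

theorem trace_nat {ι : Type*} [Fintype ι] [DecidableEq ι] {E : Matrix ι ι ℚ} (h : E * E = E) :
    ∃ t : ℕ, E.trace = t := by
  have h1 : IsIdempotentElem (Matrix.toLin' E) := by
    show Matrix.toLin' E ∘ₗ Matrix.toLin' E = _
    rw [← Matrix.toLin'_mul, h]
  exact ⟨_, by rw [← Matrix.trace_toLin'_eq, (LinearMap.IsIdempotentElem.isProj_range _ h1).trace]⟩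

variable {X : Type*} [Fintype X] [DecidableEq X]

/-- the adjacency matrix -/
def adjM (adj : X → X → Prop) [DecidableRel adj] : Matrix X X ℚ := Matrix.of fun x y => if adj x y then 1 else 0

/-- the permutation matrix -/
def permM (σ : Equiv.Perm X) : Matrix X X ℚ := Matrix.of fun x y => if σ x = y then 1 else 0

theorem permM_mul (σ : Equiv.Perm X) (B : Matrix X X ℚ) (x y : X) : (permM σ * B) x y = B (σ x) y := by
  rw [Matrix.mul_apply]
  simp [permM]

theorem mul_permM (σ : Equiv.Perm X) (B : Matrix X X ℚ) (x y : X) : (B * permM σ) x y = B x (σ.symm y) := by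
  rw [Matrix.mul_apply]
  have : ∀ j, B x j * permM σ j y = if j = σ.symm y then B x (σ.symm y) else 0 := by
    intro j
    by_cases h : j = σ.symm y
    · rw [if_pos h, h]; simp [permM]
    · rw [if_neg h]
      have : ¬ σ j = y := fun h1 => h (by rw [← h1, Equiv.symm_apply_apply])
      simp [permM, this]
  simp only [this]
  simp

/-- **the trace argument** -/
theorem exists_fix_or_move (adj : X → X → Prop) [DecidableRel adj] {k l m : ℕ}
    (hs : ∀ x y, adj x y → adj y x) (hi : ∀ x, ¬ adj x x)
    (hk : ∀ x, (Finset.univ.filter fun z => adj x z).card = k)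
    (hl : ∀ x y, adj x y → (Finset.univ.filter fun z => adj x z ∧ adj z y).card = l)
    (hm : ∀ x y, x ≠ y → ¬ adj x y → (Finset.univ.filter fun z => adj x z ∧ adj z y).card = m)
    {σ : Equiv.Perm X} (hσ : σ ^ 3 = 1) (hadj : ∀ x y, adj (σ x) (σ y) ↔ adj x y)
    {r s : ℤ} (hb : r + s = l - m) (ha : r * s = m - k) (hmn : (m : ℤ) * Fintype.card X = (k - r) * (k - s))
    (hrs : r - s ≠ 0) (hn : Fintype.card X ≠ 0)
    (hnum : ∀ t : ℕ, 3 * (r - s) * t ≠ -s * Fintype.card X - 3 * (k - s)) :
    (∃ x, σ x = x) ∨ ∃ x, adj x (σ x) := by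
  by_contra hcon
  rw [not_or, not_exists, not_exists] at hcon
  obtain ⟨hf, hc⟩ := hcon
  set n : ℚ := ((Fintype.card X : ℕ) : ℚ) with hnd
  have hn0 : n ≠ 0 := by rw [hnd]; exact_mod_cast hn
  set A : Matrix X X ℚ := adjM adj with hA
  set P : Matrix X X ℚ := permM σ with hP
  set J : Matrix X X ℚ := Matrix.of fun _ _ => 1 with hJ
  have hcl : ∀ x y, A x y = A y x := by
    intro x y
    rw [hA]
    simp only [adjM, Matrix.of_apply]
    exact if_congr ⟨hs x y, hs y x⟩ rfl rfl
  have hAJ : A * J = (k : ℚ) • J := by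
    ext x y
    rw [Matrix.mul_apply, Matrix.smul_apply, hJ]
    simp only [Matrix.of_apply, mul_one, smul_eq_mul, hA, adjM]
    rw [← hk x, Finset.card_filter]
    push_cast
    rfl
  have hJA : J * A = (k : ℚ) • J := by
    ext x y
    rw [Matrix.mul_apply, Matrix.smul_apply, hJ]
    simp only [Matrix.of_apply, one_mul, mul_one, smul_eq_mul]
    simp only [fun z => hcl z y]
    rw [← hk y, Finset.card_filter, hA]
    simp only [adjM, Matrix.of_apply]
    push_cast
    rfl
  have hJJ : J * J = n • J := by
    ext x y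
    rw [Matrix.mul_apply, Matrix.smul_apply, hJ]
    simp only [Matrix.of_apply, mul_one, smul_eq_mul, Finset.sum_const, Finset.card_univ, nsmul_eq_mul]
    rw [hnd]
  have hAA : A * A = ((k : ℚ) - m) • (1 : Matrix X X ℚ) + ((l : ℚ) - m) • A + (m : ℚ) • J := by
    ext x y
    rw [Matrix.mul_apply]
    have h1 : ∀ z, A x z * A z y = if adj x z ∧ adj z y then 1 else 0 := by
      intro z
      rw [hA]
      simp only [adjM, Matrix.of_apply]
      by_cases h1 : adj x z <;> by_cases h2 : adj z y <;> simp [h1, h2]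
    simp only [h1, Finset.sum_boole]
    simp only [Matrix.add_apply, Matrix.smul_apply, Matrix.one_apply, smul_eq_mul, hJ, Matrix.of_apply, hA, adjM]
    by_cases hxy : x = y
    · subst hxy
      have h2 : (Finset.univ.filter fun z => adj x z ∧ adj z x).card = k := by
        rw [← hk x]
        congr 1
        ext z
        simp only [Finset.mem_filter, Finset.mem_univ, true_and]
        exact ⟨fun h => h.1, fun h => ⟨h, hs _ _ h⟩⟩
      rw [h2, if_pos rfl, if_neg (hi x)]
      ring
    · rw [if_neg hxy]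
      by_cases h3 : adj x y
      · rw [hl x y h3, if_pos h3]; ring
      · rw [hm x y hxy h3, if_neg h3]; ring
  have hPA : P * A = A * P := by
    ext x y
    rw [hP, permM_mul, mul_permM, hA]
    simp only [adjM, Matrix.of_apply]
    refine if_congr ?_ rfl rfl
    rw [← hadj x (σ.symm y), Equiv.apply_symm_apply]
  have hPJ : P * J = J := by
    ext x y
    rw [hP, permM_mul, hJ]
    rfl
  have hJP : J * P = J := by
    ext x y
    rw [hP, mul_permM, hJ]
    rfl
  have hσ3 : ∀ x, σ (σ (σ x)) = x := fun x => by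
    have := congrArg (fun τ : Equiv.Perm X => τ x) hσ
    simpa [pow_succ] using this
  have hPPP : P * P * P = 1 := by
    ext x y
    rw [mul_assoc, hP, permM_mul, permM_mul]
    simp only [permM, Matrix.of_apply, Matrix.one_apply]
    rw [hσ3 x]
  -- the idempotent
  set c : ℚ := (k - s) / n with hcd
  set E : Matrix X X ℚ := ((r : ℚ) - s)⁻¹ • (A - (s : ℚ) • 1 - c • J) with hE
  set F : Matrix X X ℚ := (3 : ℚ)⁻¹ • (1 + P + P * P) with hF
  have hrs' : (r : ℚ) - s ≠ 0 := by exact_mod_cast hrs
  have hEE : E * E = E := by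
    refine idem_E (k := k) (n := n) (a := (k : ℚ) - m) (b := (l : ℚ) - m) hAA hAJ hJA hJJ ?_ ?_ ?_ ?_ hn0 hrs'
    · exact_mod_cast hb
    · have h1 : (r : ℚ) * s = m - k := by exact_mod_cast ha
      rw [h1]; ring
    · rw [hcd]; field_simp
    · rw [hnd]; exact_mod_cast hmn
  have hFF : F * F = F := idem_F hPPP
  have hEF : E * F = F * E := by
    rw [hE, hF, smul_mul_smul_comm, smul_mul_smul_comm, mul_comm ((r : ℚ) - s)⁻¹]
    congr 1
    have h1 : P * P * A = A * (P * P) := by rw [mul_assoc, hPA, ← mul_assoc, hPA, mul_assoc]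
    have h2 : P * P * J = J := by rw [mul_assoc, hPJ, hPJ]
    have h3 : J * (P * P) = J := by rw [← mul_assoc, hJP, hJP]
    simp only [sub_mul, mul_sub, add_mul, mul_add, smul_mul_assoc, mul_smul_comm, one_mul, mul_one, hPA, hPJ, hJP, h1,
      h2, h3]
    module
  obtain ⟨t, ht⟩ := trace_nat (E := E * F) (by
    calc E * F * (E * F) = E * (F * E) * F := by simp only [mul_assoc]
      _ = E * E * (F * F) := by rw [← hEF]; simp only [mul_assoc]
      _ = E * F := by rw [hEE, hFF])
  have hEFv : E * F = (((r : ℚ) - s)⁻¹ * 3⁻¹) • ((A + A * P + A * (P * P)) - (s : ℚ) • (1 + P + P * P) - (3 * c) • J) := by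
    rw [hE, hF, smul_mul_smul_comm]
    congr 1
    have h3 : J * (P * P) = J := by rw [← mul_assoc, hJP, hJP]
    simp only [sub_mul, mul_add, smul_mul_assoc, mul_one, one_mul, hJP, h3]
    module
  have t1 : A.trace = 0 := by
    simp [Matrix.trace, hA, adjM, hi]
  have t2 : (A * P).trace = 0 := by
    rw [Matrix.trace]
    refine Finset.sum_eq_zero fun x _ => ?_
    rw [Matrix.diag_apply, hP, mul_permM, hA]
    simp only [adjM, Matrix.of_apply]
    refine if_neg fun h => hc (σ.symm x) ?_
    rw [Equiv.apply_symm_apply]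
    exact hs _ _ h
  have t3 : (A * (P * P)).trace = 0 := by
    rw [Matrix.trace]
    refine Finset.sum_eq_zero fun x _ => ?_
    rw [Matrix.diag_apply, ← mul_assoc, hP, mul_permM, mul_permM, hA]
    simp only [adjM, Matrix.of_apply]
    refine if_neg fun h => hc x ?_
    have h1 : σ.symm (σ.symm x) = σ x := by
      rw [Equiv.symm_apply_eq, Equiv.symm_apply_eq, hσ3]
    rwa [h1] at h
  have t4 : (1 : Matrix X X ℚ).trace = n := by rw [Matrix.trace_one]
  have t5 : P.trace = 0 := by
    rw [Matrix.trace]
    refine Finset.sum_eq_zero fun x _ => ?_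
    rw [Matrix.diag_apply, hP]
    simp only [permM, Matrix.of_apply]
    exact if_neg (hf x)
  have t6 : (P * P).trace = 0 := by
    rw [Matrix.trace]
    refine Finset.sum_eq_zero fun x _ => ?_
    rw [Matrix.diag_apply, hP, permM_mul]
    simp only [permM, Matrix.of_apply]
    refine if_neg fun h => hf x ?_
    have := hσ3 x
    rwa [h] at this
  have t7 : J.trace = n := by
    simp [Matrix.trace, hJ, hnd]
  rw [hEFv, Matrix.trace_smul, Matrix.trace_sub, Matrix.trace_sub, Matrix.trace_add, Matrix.trace_add,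
    Matrix.trace_smul, Matrix.trace_smul, Matrix.trace_add, Matrix.trace_add, t1, t2, t3, t4, t5, t6, t7] at ht
  simp only [smul_eq_mul, add_zero, zero_sub] at ht
  have hcn : c * n = k - s := by rw [hcd]; field_simp
  have h9 : 3 * ((r : ℚ) - s) * t = -s * n - 3 * (k - s) := by
    rw [← ht]
    field_simp
    linear_combination -3 * hcn
  refine hnum t ?_
  rw [hnd] at h9
  exact_mod_cast h9

end Cfsg.Agent.H588.SN.Trace
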