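import Cfsg.Agent.H588.SN.FiTab
import Cfsg.Agent.H588.SN.FiFix
import Cfsg.Agent.H588.SN.Trace
import Cfsg.Agent.H461.T5S.Cert
import Cfsg.Agent.CpAutFiFive.Fi22

/-!
# `Fi22`: elements of order three (helper588, S3831)

`g3i_fi22`, `g3_fi22`. An element `x` of order three fixes a transposition or moves one to a commuting one (trace
argument). In the second case it lies, up to conjugation, in an explicit elementary abelian group of order 27; its
elements moving the three commuting transpositions either fix a transposition or have no `PS 2`.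
-/

set_option autoImplicit false
set_option linter.constructorNameAsVariable false

namespace Cfsg.Agent.H588.SN.FiT

open Subgroup Cfsg Cfsg.Agent.Fischer Cfsg.Agent.Fischer.Cert Cfsg.Agent.Fischer.Group22 Cfsg.Agent.Fischer.Rank22
open Cfsg.Agent.Fischer.Abstract
open Cfsg.Agent.R01.Fi22Facts (E trans_com trans_ncom)
open Cfsg.Agent.H459.Rad (PS)
open Cfsg.Agent.H21.SN

/-! ### the commuting graph -/

/-- different and commuting -/
def adj (x y : X) : Prop := x ≠ y ∧ R.Com x y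

theorem adj_symm {x y : X} (h : adj x y) : adj y x := ⟨h.1.symm, R.com_symm h.2⟩

theorem adj_smul (k : G) (x y : X) : adj (k • x) (k • y) ↔ adj x y := by
  unfold adj
  rw [R.com_smul, (MulAction.injective k).ne_iff]

theorem fx_iff (s : Data22.Gen) (z : X) : fx s (pg s : X) z = true ↔ adj (pg s) z := by
  have h1 : R.Com (pg s) z ↔ Data22.nx s (z : ℕ) = z := by
    rw [← R.t_smul_eq_iff]
    have h2 : R.t (pg s) = g s := t_pg s
    rw [h2]
    constructor
    · intro h
      rw [← g_smul, h]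
    · intro h
      exact Fin.ext ((g_smul s z).trans h)
  unfold fx adj
  rw [band_eq, h1]
  refine and_congr ?_ ⟨Nat.eq_of_beq_eq_true, fun h => by rw [h, Nat.beq_refl]⟩
  constructor
  · intro h h2
    rw [← h2, Nat.beq_refl] at h
    exact Bool.noConfusion h
  · intro h
    cases hb : Nat.beq (z : ℕ) (pg s : X) with
    | false => rfl
    | true => exact absurd (Fin.ext (Nat.eq_of_beq_eq_true hb)).symm h

theorem card_congr {P Q : X → Prop} [DecidablePred P] [DecidablePred Q] (k : G) (h : ∀ z, P z ↔ Q (k • z)) :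
    (Finset.univ.filter P).card = (Finset.univ.filter Q).card := by
  refine Finset.card_bij (fun z _ => k • z) ?_ ?_ ?_
  · intro z hz
    simp only [Finset.mem_filter, Finset.mem_univ, true_and] at hz ⊢
    exact (h z).1 hz
  · intro a _ b _ hab
    exact MulAction.injective k hab
  · intro b hb
    simp only [Finset.mem_filter, Finset.mem_univ, true_and] at hb
    refine ⟨k⁻¹ • b, ?_, smul_inv_smul _ _⟩
    simp only [Finset.mem_filter, Finset.mem_univ, true_and]
    rw [h, smul_inv_smul]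
    exact hb

theorem val_a : ((pg .a : X) : ℕ) = 0 := Nat.eq_of_beq_eq_true pg_val.1
theorem val_b : ((pg .b : X) : ℕ) = 2 := Nat.eq_of_beq_eq_true pg_val.2.1
theorem val_c : ((pg .c : X) : ℕ) = 2817 := Nat.eq_of_beq_eq_true pg_val.2.2.1
theorem val_e : ((pg .e : X) : ℕ) = 2827 := Nat.eq_of_beq_eq_true pg_val.2.2.2

theorem fx_a (z : X) : fx .a 0 z = true ↔ adj (pg .a) z := by rw [← fx_iff, val_a]
theorem fx_b (z : X) : fx .b 2 z = true ↔ adj (pg .b) z := by rw [← fx_iff, val_b]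
theorem fx_c (z : X) : fx .c 2817 z = true ↔ adj (pg .c) z := by rw [← fx_iff, val_c]

theorem adj_ac : adj (pg .a) (pg .c) := by
  rw [← fx_a, val_c]; decide +kernel
theorem adj_ae : adj (pg .a) (pg .e) := by
  rw [← fx_a, val_e]; decide +kernel
theorem adj_ce : adj (pg .c) (pg .e) := by
  rw [← fx_c, val_e]; decide +kernel

theorem ncom_ab : ¬ R.Com (pg .a) (pg .b) := by
  intro h
  have h1 : adj (pg .a) (pg .b) := ⟨fun h2 => by have := congrArg (fun z : X => (z : ℕ)) h2; simp only [val_a, val_b] at this; omega, h⟩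
  rw [← fx_a, val_b] at h1
  revert h1
  decide +kernel

section Graph

attribute [local instance] Classical.propDecidable

theorem deg (x : X) : (Finset.univ.filter fun z => adj x z).card = 693 := by
  obtain ⟨k, rfl⟩ := R.trans x
  have h : R.x0 = pg .a := Fin.ext (by rw [val_a]; rfl)
  rw [← card_of_cnt cnt1 (fun z => adj (pg .a) z) (fun z => (fx_a z).symm), h]
  exact (card_congr k fun z => (adj_smul k _ _).symm).symm

theorem deg2 {x y : X} (hxy : adj x y) : (Finset.univ.filter fun z => adj x z ∧ adj z y).card = 180 := by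
  obtain ⟨k, rfl, rfl⟩ := trans_com adj_ac.2 adj_ac.1 hxy.2 hxy.1
  rw [← card_of_cnt cnt2 (fun z => adj (pg .a) z ∧ adj z (pg .c)) (fun z => by
    rw [band_eq, fx_a, fx_c]
    exact and_congr_right fun _ => ⟨adj_symm, adj_symm⟩)]
  exact (card_congr k fun z => and_congr (adj_smul k _ _).symm (adj_smul k _ _).symm).symm

theorem deg3 {x y : X} (hne : x ≠ y) (hxy : ¬ adj x y) :
    (Finset.univ.filter fun z => adj x z ∧ adj z y).card = 126 := by
  obtain ⟨k, rfl, rfl⟩ := trans_ncom ncom_ab (fun h => hxy ⟨hne, h⟩)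
  rw [← card_of_cnt cnt3 (fun z => adj (pg .a) z ∧ adj z (pg .b)) (fun z => by
    rw [band_eq, fx_a, fx_b]
    exact and_congr_right fun _ => ⟨adj_symm, adj_symm⟩)]
  exact (card_congr k fun z => and_congr (adj_smul k _ _).symm (adj_smul k _ _).symm).symm

/-- **fixes a transposition or moves one to a commuting one** -/
theorem fix_or_move {x : G} (hx : x ^ 3 = 1) : (∃ p : X, x • p = p) ∨ ∃ p : X, adj p (x • p) := by
  have hcard : Fintype.card X = 3510 := Fintype.card_fin _
  refine Trace.exists_fix_or_move adj (k := 693) (l := 180) (m := 126) (fun _ _ => adj_symm) (fun _ h => h.1 rfl)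
    deg (fun _ _ => deg2) (fun _ _ => deg3) (σ := (x : Equiv.Perm X)) ?_ (fun a b => adj_smul x a b) (r := 63) (s := -9)
    (by norm_num) (by norm_num) (by rw [hcard]; norm_num) (by norm_num) (by rw [hcard]; norm_num) ?_
  · rw [← Subgroup.coe_pow, hx, Subgroup.coe_one]
  · intro t
    rw [hcard]
    push_cast
    omega

/-! ### triples -/

theorem lt_spec {r : List Lt} (hr : r ∈ lt) : ev r • (pg .a : X) = pg .a ∧ ev r • (pg .c : X) = pg .c := by
  obtain ⟨h1, h2⟩ := band_eq.1 (allList_spec lt_fix r hr)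
  constructor
  · apply Fin.ext
    rw [val_ev, val_a]
    exact Nat.eq_of_beq_eq_true h1
  · apply Fin.ext
    rw [val_ev, val_c]
    exact Nat.eq_of_beq_eq_true h2

theorem Qa_bd {k : ℕ} (hk : k < 180) : Qa k < 3510 := Nat.le_of_ble_eq_true (allBelow_spec Qa_lt k hk)

theorem tree_spec : ∀ k < 180, ∃ m : G, m • (pg .a : X) = pg .a ∧ m • (pg .c : X) = pg .c ∧
    ((m • (pg .e : X) : X) : ℕ) = Qa k := by
  intro k
  induction k using Nat.strong_induction_on with
  | _ k ih =>
    intro hk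
    rcases k with _ | k
    · refine ⟨1, one_smul _ _, one_smul _ _, ?_⟩
      rw [one_smul, val_e, Nat.eq_of_beq_eq_true Qa_zero]
    · obtain ⟨h1, h2⟩ := band_eq.1 (allBelow_spec tree k (by omega))
      have h3 : Pa (k + 1) ≤ k := Nat.le_of_ble_eq_true h1
      obtain ⟨r, hr, h4⟩ := anyAt_spec h2
      obtain ⟨m, m1, m2, m3⟩ := ih (Pa (k + 1)) (by omega) (by omega)
      obtain ⟨r1, r2⟩ := lt_spec hr
      refine ⟨ev r * m, by rw [mul_smul, m1, r1], by rw [mul_smul, m2, r2], ?_⟩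
      rw [mul_smul, val_ev, m3]
      exact Nat.eq_of_beq_eq_true h4

theorem trans_e {q : X} (h1 : adj (pg .a) q) (h2 : adj (pg .c) q) :
    ∃ m : G, m • (pg .a : X) = pg .a ∧ m • (pg .c : X) = pg .c ∧ m • (pg .e : X) = q := by
  have h3 := allGrid_spec idx q q.2
  have h4 : band (fx .a 0 q) (fx .c 2817 q) = true := band_eq.2 ⟨(fx_a q).2 h1, (fx_c q).2 h2⟩
  rw [h4] at h3
  obtain ⟨h5, h6⟩ := band_eq.1 h3
  have h7 : Ia q ≤ 179 := Nat.le_of_ble_eq_true h5
  obtain ⟨m, m1, m2, m3⟩ := tree_spec (Ia q) (by omega)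
  exact ⟨m, m1, m2, Fin.ext (m3.trans (Nat.eq_of_beq_eq_true h6))⟩

/-- the three transpositions can be moved to `a`, `c`, `e` -/
theorem trans_triple {p q r : X} (h1 : adj p q) (h2 : adj p r) (h3 : adj q r) :
    ∃ k : G, k • p = pg .a ∧ k • q = pg .c ∧ k • r = pg .e := by
  obtain ⟨k, rfl, rfl⟩ := trans_com adj_ac.2 adj_ac.1 h1.2 h1.1
  have h4 : adj (pg .a) (k⁻¹ • r) := by rw [← adj_smul k, smul_inv_smul]; exact h2
  have h5 : adj (pg .c) (k⁻¹ • r) := by rw [← adj_smul k, smul_inv_smul]; exact h3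
  obtain ⟨m, m1, m2, m3⟩ := trans_e h4 h5
  refine ⟨(k * m)⁻¹, ?_, ?_, ?_⟩
  · rw [inv_smul_eq_iff, mul_smul, m1]
  · rw [inv_smul_eq_iff, mul_smul, m2]
  · rw [inv_smul_eq_iff, mul_smul, m3, smul_inv_smul]

end Graph

/-! ### the order of the normalizer of the triple -/

theorem card_step (H : Subgroup G) (p : X) (O : Finset X) (h1 : ∀ k ∈ H, k • p ∈ O)
    (h2 : ∀ q ∈ O, ∃ k ∈ H, k • p = q) :
    Nat.card H = O.card * Nat.card (H ⊓ MulAction.stabilizer G p : Subgroup G) := by
  have e1 : (MulAction.stabilizer H p).index = O.card := by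
    rw [MulAction.index_stabilizer]
    have : MulAction.orbit H p = (O : Set X) := by
      ext q
      constructor
      · rintro ⟨k, rfl⟩
        exact h1 k k.2
      · intro hq
        obtain ⟨k, hk, rfl⟩ := h2 q hq
        exact ⟨⟨k, hk⟩, rfl⟩
    rw [this, Set.ncard_coe_finset]
  have e2 : Nat.card (MulAction.stabilizer H p) = Nat.card (H ⊓ MulAction.stabilizer G p : Subgroup G) :=
    Nat.card_congr
      { toFun := fun k => ⟨(k : H), k.1.2, k.2⟩
        invFun := fun k => ⟨⟨k.1, k.2.1⟩, k.2.2⟩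
        left_inv := fun _ => rfl
        right_inv := fun _ => rfl }
  rw [← e1, ← e2, mul_comm, Subgroup.card_mul_index]

/-- the stabilizer of the three points -/
def C3 : Subgroup G := (⊤ ⊓ MulAction.stabilizer G (pg .a : X)) ⊓ MulAction.stabilizer G (pg .c : X) ⊓
  MulAction.stabilizer G (pg .e : X)

theorem mem_C3 {k : G} : k ∈ C3 ↔ k • (pg .a : X) = pg .a ∧ k • (pg .c : X) = pg .c ∧ k • (pg .e : X) = pg .e := by
  unfold C3
  simp only [Subgroup.mem_inf, Subgroup.mem_top, true_and, MulAction.mem_stabilizer_iff, and_assoc]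

theorem card_G : Nat.card G = 64561751654400 := by
  rw [Nat.card_congr E.toEquiv]; exact Cfsg.Agent.R01.Fi22Facts.card

theorem card_C3 : Nat.card C3 = 147456 := by
  classical
  have s1 := card_step ⊤ (pg .a) Finset.univ (fun _ _ => Finset.mem_univ _) (fun q _ => by
    obtain ⟨k, hk⟩ := R.trans q
    have h : R.x0 = pg .a := Fin.ext (by rw [val_a]; rfl)
    rw [h] at hk
    exact ⟨k, mem_top _, hk⟩)
  have s2 := card_step (⊤ ⊓ MulAction.stabilizer G (pg .a : X)) (pg .c) (Finset.univ.filter fun z => adj (pg .a) z)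
    (fun k hk => by
      simp only [Finset.mem_filter, Finset.mem_univ, true_and]
      have h1 : k • (pg .a : X) = pg .a := hk.2
      have := (adj_smul k (pg .a) (pg .c)).2 adj_ac
      rwa [h1] at this) (fun q hq => by
      simp only [Finset.mem_filter, Finset.mem_univ, true_and] at hq
      obtain ⟨k, h1, h2⟩ := trans_com adj_ac.2 adj_ac.1 hq.2 hq.1
      exact ⟨k, ⟨mem_top _, h1⟩, h2⟩)
  have s3 := card_step ((⊤ ⊓ MulAction.stabilizer G (pg .a : X)) ⊓ MulAction.stabilizer G (pg .c : X)) (pg .e)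
    (Finset.univ.filter fun z => adj (pg .a) z ∧ adj z (pg .c))
    (fun k hk => by
      simp only [Finset.mem_filter, Finset.mem_univ, true_and]
      have h1 : k • (pg .a : X) = pg .a := hk.1.2
      have h2 : k • (pg .c : X) = pg .c := hk.2
      have h3 := (adj_smul k (pg .a) (pg .e)).2 adj_ae
      have h4 := (adj_smul k (pg .e) (pg .c)).2 (adj_symm adj_ce)
      rw [h1] at h3
      rw [h2] at h4
      exact ⟨h3, h4⟩) (fun q hq => by
      simp only [Finset.mem_filter, Finset.mem_univ, true_and] at hq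
      obtain ⟨m, m1, m2, m3⟩ := trans_e hq.1 (adj_symm hq.2)
      exact ⟨m, ⟨⟨mem_top _, m1⟩, m2⟩, m3⟩)
  rw [deg] at s2
  rw [deg2 adj_ac] at s3
  have hu : (Finset.univ : Finset X).card = 3510 := Finset.card_fin 3510
  rw [hu, Subgroup.card_top, card_G, s2, s3] at s1
  have s4 : 64561751654400 = 3510 * (693 * (180 * Nat.card C3)) := s1
  refine Nat.eq_of_mul_eq_mul_left (show 0 < 3510 * (693 * 180) by norm_num) ?_
  calc 3510 * (693 * 180) * Nat.card C3 = 3510 * (693 * (180 * Nat.card C3)) := by ring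
    _ = 64561751654400 := s4.symm
    _ = 3510 * (693 * 180) * 147456 := by norm_num

theorem w_cyc : ev [.w] • (pg .a : X) = pg .c ∧ ev [.w] • (pg .c : X) = pg .e ∧ ev [.w] • (pg .e : X) = pg .a := by
  refine ⟨Fin.ext ?_, Fin.ext ?_, Fin.ext ?_⟩
  · rw [val_ev, val_a, val_c]; decide +kernel
  · rw [val_ev, val_c, val_e]; decide +kernel
  · rw [val_ev, val_e, val_a]; decide +kernel

/-- the normalizer of the triple (even permutations) -/
def NT : Subgroup G where
  carrier := {k | (k • (pg .a : X) = pg .a ∧ k • (pg .c : X) = pg .c ∧ k • (pg .e : X) = pg .e) ∨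
    (k • (pg .a : X) = pg .c ∧ k • (pg .c : X) = pg .e ∧ k • (pg .e : X) = pg .a) ∨
    (k • (pg .a : X) = pg .e ∧ k • (pg .c : X) = pg .a ∧ k • (pg .e : X) = pg .c)}
  one_mem' := Or.inl ⟨one_smul _ _, one_smul _ _, one_smul _ _⟩
  mul_mem' := by
    rintro k m (⟨h1, h2, h3⟩ | ⟨h1, h2, h3⟩ | ⟨h1, h2, h3⟩) (⟨h4, h5, h6⟩ | ⟨h4, h5, h6⟩ | ⟨h4, h5, h6⟩) <;>
      simp only [Set.mem_ofPred_eq, mul_smul, h1, h2, h3, h4, h5, h6, true_and, true_or, or_true]
  inv_mem' := by
    rintro k (⟨h1, h2, h3⟩ | ⟨h1, h2, h3⟩ | ⟨h1, h2, h3⟩)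
    · refine Or.inl ⟨?_, ?_, ?_⟩ <;> rw [inv_smul_eq_iff] <;> exact Eq.symm ‹_›
    · refine Or.inr (Or.inr ⟨?_, ?_, ?_⟩) <;> rw [inv_smul_eq_iff] <;> exact Eq.symm ‹_›
    · refine Or.inr (Or.inl ⟨?_, ?_, ?_⟩) <;> rw [inv_smul_eq_iff] <;> exact Eq.symm ‹_›

theorem card_NT : Nat.card NT = 442368 := by
  classical
  have h := card_step NT (pg .a) {pg .a, pg .c, pg .e} (fun k hk => by
    simp only [Finset.mem_insert, Finset.mem_singleton]
    rcases hk with ⟨h1, -, -⟩ | ⟨h1, -, -⟩ | ⟨h1, -, -⟩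
    · exact Or.inl h1
    · exact Or.inr (Or.inl h1)
    · exact Or.inr (Or.inr h1)) (fun q hq => by
    simp only [Finset.mem_insert, Finset.mem_singleton] at hq
    rcases hq with rfl | rfl | rfl
    · exact ⟨1, one_mem _, one_smul _ _⟩
    · exact ⟨ev [.w], Or.inr (Or.inl w_cyc), w_cyc.1⟩
    · refine ⟨(ev [.w])⁻¹, inv_mem (show ev [.w] ∈ NT from Or.inr (Or.inl w_cyc)), ?_⟩
      rw [inv_smul_eq_iff, w_cyc.2.2])
  have h1 : NT ⊓ MulAction.stabilizer G (pg .a : X) = C3 := by
    ext k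
    rw [mem_C3]
    constructor
    · rintro ⟨h1 | h1 | h1, h2⟩
      · exact h1
      · exact absurd (h1.1.symm.trans h2) adj_ac.1.symm
      · exact absurd (h1.1.symm.trans h2) adj_ae.1.symm
    · intro h1
      exact ⟨Or.inl h1, h1.1⟩
  rw [h1, card_C3, Finset.card_insert_of_notMem, Finset.card_insert_of_notMem, Finset.card_singleton] at h
  · rw [h]
  · simp only [Finset.mem_singleton]
    exact adj_ce.1
  · simp only [Finset.mem_insert, Finset.mem_singleton, not_or]
    exact ⟨adj_ac.1, adj_ae.1⟩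

/-! ### the group of order 27 -/

theorem ev_pw (n : ℕ) (r : List Lt) : ev (pw n r) = ev r ^ n := by
  induction n with
  | zero => rfl
  | succ n ih =>
    have : pw (n + 1) r = r ++ pw n r := by
      unfold pw
      rw [List.replicate_succ, List.flatten_cons]
    rw [this, ev_append, ih, pow_succ']

/-- the word of the element with the number `n` -/
def wd (n : ℕ) : List Lt := pw (n / 9) [.s .h, .s .i] ++ (pw (n / 3 % 3) [.v] ++ pw (n % 3) [.w])

theorem ev_wd (n : ℕ) : ev (wd n) = ev [.s .h, .s .i] ^ (n / 9) * (ev [.v] ^ (n / 3 % 3) * ev [.w] ^ (n % 3)) := by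
  unfold wd
  rw [ev_append, ev_append, ev_pw, ev_pw, ev_pw]

theorem cv : ev [.v] ^ 3 = 1 := by
  have h := eqChk_spec vvv
  rw [← ev_pw]
  exact h

theorem cw : ev [.w] ^ 3 = 1 := by
  have h := eqChk_spec www
  rw [← ev_pw]
  exact h

theorem cx : ev [.s .h, .s .i] ^ 3 = 1 := by
  have h := eqChk_spec hihihi
  rw [← ev_pw]
  exact h

theorem cvw : Commute (ev [.v]) (ev [.w]) := by
  have h := eqChk_spec vw
  rw [show [Lt.v, Lt.w] = [.v] ++ [.w] from rfl, show [Lt.w, Lt.v] = [.w] ++ [.v] from rfl, ev_append, ev_append] at h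
  exact h

theorem cxv : Commute (ev [.s .h, .s .i]) (ev [.v]) := by
  have h1 := eqChk_spec hv
  have h2 := eqChk_spec iv
  rw [show [Lt.s .h, Lt.v] = [.s .h] ++ [.v] from rfl, show [Lt.v, Lt.s .h] = [.v] ++ [.s .h] from rfl, ev_append,
    ev_append] at h1
  rw [show [Lt.s .i, Lt.v] = [.s .i] ++ [.v] from rfl, show [Lt.v, Lt.s .i] = [.v] ++ [.s .i] from rfl, ev_append,
    ev_append] at h2
  rw [show [Lt.s .h, Lt.s .i] = [.s .h] ++ [.s .i] from rfl, ev_append]
  exact Commute.mul_left h1 h2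

theorem cxw : Commute (ev [.s .h, .s .i]) (ev [.w]) := by
  have h1 := eqChk_spec hw
  have h2 := eqChk_spec iw
  rw [show [Lt.s .h, Lt.w] = [.s .h] ++ [.w] from rfl, show [Lt.w, Lt.s .h] = [.w] ++ [.s .h] from rfl, ev_append,
    ev_append] at h1
  rw [show [Lt.s .i, Lt.w] = [.s .i] ++ [.w] from rfl, show [Lt.w, Lt.s .i] = [.w] ++ [.s .i] from rfl, ev_append,
    ev_append] at h2
  rw [show [Lt.s .h, Lt.s .i] = [.s .h] ++ [.s .i] from rfl, ev_append]
  exact Commute.mul_left h1 h2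

theorem red3 {k : G} (hk : k ^ 3 = 1) (n : ℕ) : k ^ n = k ^ (n % 3) := by
  conv_lhs => rw [← Nat.div_add_mod n 3, pow_add, pow_mul, hk, one_pow, one_mul]

/-- the elements are closed under multiplication -/
theorem wd_mul (n m : ℕ) : ∃ k < 27, ev (wd n) * ev (wd m) = ev (wd k) := by
  set x := ev [.s .h, .s .i] with hx
  set v := ev [.v] with hv
  set w := ev [.w] with hw
  have key : ∀ a b c a' b' c' : ℕ, x ^ a * (v ^ b * w ^ c) * (x ^ a' * (v ^ b' * w ^ c')) =
      x ^ (a + a') * (v ^ (b + b') * w ^ (c + c')) := by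
    intro a b c a' b' c'
    have h1 : w ^ c * x ^ a' = x ^ a' * w ^ c := (cxw.symm.pow_pow c a').eq
    have h2 : v ^ b * x ^ a' = x ^ a' * v ^ b := (cxv.symm.pow_pow b a').eq
    have h3 : w ^ c * v ^ b' = v ^ b' * w ^ c := (cvw.symm.pow_pow c b').eq
    calc x ^ a * (v ^ b * w ^ c) * (x ^ a' * (v ^ b' * w ^ c')) =
        x ^ a * (v ^ b * (w ^ c * x ^ a') * (v ^ b' * w ^ c')) := by simp only [mul_assoc]
      _ = x ^ a * ((v ^ b * x ^ a') * (w ^ c * v ^ b') * w ^ c') := by rw [h1]; simp only [mul_assoc]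
      _ = (x ^ a * x ^ a') * ((v ^ b * v ^ b') * (w ^ c * w ^ c')) := by rw [h2, h3]; simp only [mul_assoc]
      _ = _ := by rw [pow_add, pow_add, pow_add]
  refine ⟨(n / 9 + m / 9) % 3 * 9 + (n / 3 % 3 + m / 3 % 3) % 3 * 3 + (n % 3 + m % 3) % 3, by omega, ?_⟩
  rw [ev_wd, ev_wd, ev_wd, key, red3 cx (n / 9 + m / 9), red3 cv (n / 3 % 3 + m / 3 % 3), red3 cw (n % 3 + m % 3)]
  have e1 : ((n / 9 + m / 9) % 3 * 9 + (n / 3 % 3 + m / 3 % 3) % 3 * 3 + (n % 3 + m % 3) % 3) / 9 =
      (n / 9 + m / 9) % 3 := by omega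
  have e2 : ((n / 9 + m / 9) % 3 * 9 + (n / 3 % 3 + m / 3 % 3) % 3 * 3 + (n % 3 + m % 3) % 3) / 3 % 3 =
      (n / 3 % 3 + m / 3 % 3) % 3 := by omega
  have e3 : ((n / 9 + m / 9) % 3 * 9 + (n / 3 % 3 + m / 3 % 3) % 3 * 3 + (n % 3 + m % 3) % 3) % 3 =
      (n % 3 + m % 3) % 3 := by omega
  rw [e1, e2, e3]

theorem ev_wd_zero : ev (wd 0) = 1 := by
  rw [ev_wd]; simp

theorem wd_cube (n : ℕ) : ev (wd n) ^ 3 = 1 := by
  rw [ev_wd, (cxv.pow_pow _ _ |>.mul_right (cxw.pow_pow _ _)).mul_pow, (cvw.pow_pow _ _).mul_pow, ← pow_mul, ← pow_mul,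
    ← pow_mul, mul_comm (n / 9), mul_comm (n / 3 % 3), mul_comm (n % 3), pow_mul, pow_mul, pow_mul, cx, cv, cw]
  simp

/-- the group of order 27 -/
def S27 : Subgroup G where
  carrier := {k | ∃ n < 27, k = ev (wd n)}
  one_mem' := ⟨0, by norm_num, ev_wd_zero.symm⟩
  mul_mem' := by
    rintro _ _ ⟨n, hn, rfl⟩ ⟨m, hm, rfl⟩
    obtain ⟨k, hk, h⟩ := wd_mul n m
    exact ⟨k, hk, h⟩
  inv_mem' := by
    rintro _ ⟨n, hn, rfl⟩
    obtain ⟨k, hk, h⟩ := wd_mul n n
    refine ⟨k, hk, ?_⟩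
    rw [← h]
    refine inv_eq_of_mul_eq_one_left ?_
    rw [← pow_two, ← pow_succ]
    exact wd_cube n

theorem code_inj : ∀ n < 27, ∀ m < 27, walk nt (wd n).reverse 2830 = walk nt (wd m).reverse 2830 →
    walk nt (wd n).reverse 2922 = walk nt (wd m).reverse 2922 → walk nt (wd n).reverse 0 = walk nt (wd m).reverse 0 →
    n = m := by decide +kernel

theorem wd_inj {n m : ℕ} (hn : n < 27) (hm : m < 27) (h : ev (wd n) = ev (wd m)) : n = m := by
  have h1 : ∀ z (hz : z < 3510), walk nt (wd n).reverse z = walk nt (wd m).reverse z := by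
    intro z hz
    have h2 := val_ev (wd n) ⟨z, hz⟩
    rw [h, val_ev] at h2
    exact h2.symm
  exact code_inj n hn m hm (h1 _ (by norm_num)) (h1 _ (by norm_num)) (h1 _ (by norm_num))

theorem card_S27 : Nat.card S27 = 27 := by
  have e : Fin 27 ≃ S27 := Equiv.ofBijective (fun n => ⟨ev (wd n), n, n.2, rfl⟩) (by
    constructor
    · intro a b hab
      exact Fin.ext (wd_inj a.2 b.2 (congrArg (fun z : S27 => (z : G)) hab))
    · rintro ⟨_, n, hn, rfl⟩
      exact ⟨⟨n, hn⟩, rfl⟩)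
  rw [← Nat.card_congr e, Nat.card_eq_fintype_card, Fintype.card_fin]

theorem S27_cyc : ∀ n < 27, (walk nt (wd n).reverse 0 = 0 ∧ walk nt (wd n).reverse 2817 = 2817 ∧
      walk nt (wd n).reverse 2827 = 2827) ∨
    (walk nt (wd n).reverse 0 = 2817 ∧ walk nt (wd n).reverse 2817 = 2827 ∧ walk nt (wd n).reverse 2827 = 0) ∨
    (walk nt (wd n).reverse 0 = 2827 ∧ walk nt (wd n).reverse 2817 = 0 ∧ walk nt (wd n).reverse 2827 = 2817) := by
  decide +kernel

theorem S27_le : S27 ≤ NT := by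
  rintro _ ⟨n, hn, rfl⟩
  have key : ∀ (p q : X), walk nt (wd n).reverse p = q → ev (wd n) • p = q := fun p q h =>
    Fin.ext ((val_ev _ _).trans h)
  rcases S27_cyc n hn with ⟨h1, h2, h3⟩ | ⟨h1, h2, h3⟩ | ⟨h1, h2, h3⟩
  · refine Or.inl ⟨key _ _ ?_, key _ _ ?_, key _ _ ?_⟩ <;> simp only [val_a, val_c, val_e] <;> assumption
  · refine Or.inr (Or.inl ⟨key _ _ ?_, key _ _ ?_, key _ _ ?_⟩) <;> simp only [val_a, val_c, val_e] <;> assumption
  · refine Or.inr (Or.inr ⟨key _ _ ?_, key _ _ ?_, key _ _ ?_⟩) <;> simp only [val_a, val_c, val_e] <;> assumption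

theorem not_dvd_index : ¬ 3 ∣ (S27.subgroupOf NT).index := by
  have h1 := Subgroup.card_mul_index (S27.subgroupOf NT)
  rw [Nat.card_congr (Subgroup.subgroupOfEquivOfLe S27_le).toEquiv, card_S27, card_NT] at h1
  have h2 : (S27.subgroupOf NT).index = 16384 := by omega
  rw [h2]
  norm_num

/-! ### the elements without fixed transposition -/

theorem PS.conj {K : Type*} [Group K] {k : ℕ} {x : K} (h : PS k (MulAut.conj x)) (g : K) :
    PS k (MulAut.conj (g * x * g⁻¹)) := by
  intro f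
  have h1 := h fun i => f i * g
  have h2 : ∀ i, MulAut.conj (f i) * MulAut.conj (g * x * g⁻¹) * (MulAut.conj (f i))⁻¹ =
      MulAut.conj (f i * g) * MulAut.conj x * (MulAut.conj (f i * g))⁻¹ := by
    intro i
    rw [← map_inv, ← map_inv, ← map_mul, ← map_mul, ← map_mul, ← map_mul]
    congr 1
    group
  have h3 : (fun i => MulAut.conj (f i) * MulAut.conj (g * x * g⁻¹) * (MulAut.conj (f i))⁻¹) =
      fun i => MulAut.conj (f i * g) * MulAut.conj x * (MulAut.conj (f i * g))⁻¹ := funext h2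
  rw [h3]
  exact h1

theorem simple_G : IsSimpleGroup G := E.isSimpleGroup_congr.2 Cfsg.Agent.R01.Fi22Facts.isSimple

theorem center_G : center G = ⊥ := by
  have := simple_G
  have : Finite G := Nat.finite_of_card_ne_zero (by rw [card_G]; norm_num)
  exact center_bot (by rw [card_G]; norm_num)

/-- **two conjugates generate a nonsolvable group** -/
theorem not_ps (y Y : List Lt) (hY : ev Y = (ev y)⁻¹) (h5 : eqChk (pw 5 (y ++ cj Y)) [] = true)
    (h3 : eqChk (pw 3 (y ++ cj y ++ Y ++ cj Y)) [] = true)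
    (h2 : eqChk (pw 2 (y ++ cj Y ++ (y ++ cj y ++ Y ++ cj Y))) [] = true)
    (hne : Nat.beq (walk nt (y ++ cj y ++ Y ++ cj Y).reverse 0) 0 = false) : ¬ PS 2 (MulAut.conj (ev y)) := by
  intro hP
  set m : G := g .a * g .b with hm
  have hm' : m⁻¹ = g .b * g .a := by rw [hm, mul_inv_rev, g_inv, g_inv]
  have hcj : ∀ r, ev (cj r) = m * ev r * m⁻¹ := by
    intro r
    unfold cj
    rw [ev_append, ev_append, hm', show [Lt.s .a, Lt.s .b] = [.s .a] ++ [.s .b] from rfl,
      show [Lt.s .b, Lt.s .a] = [.s .b] ++ [.s .a] from rfl, ev_append, ev_append, ev_s, ev_s]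
  clear_value m
  set z := m * ev y * m⁻¹ with hz
  have hzi : z⁻¹ = m * (ev y)⁻¹ * m⁻¹ := by rw [hz]; group
  have hA : ev (y ++ cj Y) = ev y * z⁻¹ := by
    rw [ev_append, hcj, hY, hzi]
  have hB : ev (y ++ cj y ++ Y ++ cj Y) = ev y * z * (ev y)⁻¹ * z⁻¹ := by
    rw [ev_append, ev_append, ev_append, hcj, hcj, hY, ← hz, hzi]
  have e5 := eqChk_spec h5
  have e3 := eqChk_spec h3
  have e2 := eqChk_spec h2
  rw [ev_pw, ev_nil] at e5 e3 e2
  rw [hA] at e5
  rw [ev_append, hA, hB] at e2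
  rw [hB] at e3
  have hs := hP ![1, m]
  set H : Subgroup (MulAut G) := closure (Set.range fun i => MulAut.conj (![1, m] i) * MulAut.conj (ev y) *
    (MulAut.conj (![1, m] i))⁻¹) with hH
  have my : MulAut.conj (ev y) ∈ H := subset_closure ⟨0, by simp⟩
  have mz : MulAut.conj z ∈ H := subset_closure ⟨1, by simp [hz]⟩
  have c1 : MulAut.conj (ev y * z⁻¹) ∈ H := by
    rw [map_mul, map_inv]
    exact mul_mem my (inv_mem mz)
  have c2 : MulAut.conj (ev y * z * (ev y)⁻¹ * z⁻¹) ∈ H := by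
    rw [map_mul, map_mul, map_mul, map_inv, map_inv]
    exact mul_mem (mul_mem (mul_mem my mz) (inv_mem my)) (inv_mem mz)
  refine Cfsg.Agent.H461.T5S.not_solvable_of_coprime c1 c2 (a := 5) (b := 3) (c := 2) ?_ ?_ ?_ (by norm_num)
    (by norm_num) (by norm_num) ?_ hs
  · rw [← map_pow, e5, map_one]
  · rw [← map_pow, e3, map_one]
  · rw [← map_mul, ← map_pow, e2, map_one]
  · intro h
    have h1 := (MulAut.conj : G →* MulAut G).ker_eq_bot_iff
    have h4 : Function.Injective (MulAut.conj : G →* MulAut G) := conj_injective' center_G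
    have h6 := h4 (h.trans (map_one _).symm)
    have h7 := val_ev (y ++ cj y ++ Y ++ cj Y) ⟨0, by norm_num⟩
    rw [hB, h6, one_smul] at h7
    have h8 : walk nt (y ++ cj y ++ Y ++ cj Y).reverse 0 = 0 := h7.symm
    rw [h8] at hne
    exact Bool.noConfusion hne

theorem ev_v2 : ev [.v] = (ev [.v'])⁻¹ := by rw [ev_v', inv_inv]

theorem hiinv : ev [.s .i, .s .h] = (ev [.s .h, .s .i])⁻¹ := by
  rw [show [Lt.s .i, Lt.s .h] = [.s .i] ++ [.s .h] from rfl, show [Lt.s .h, Lt.s .i] = [.s .h] ++ [.s .i] from rfl,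
    ev_append, ev_append, ev_s, ev_s, mul_inv_rev, g_inv, g_inv]

theorem ev_Y1 : ev Y1 = (ev y1)⁻¹ := by
  rw [show Y1 = [.w'] ++ ([.v'] ++ [.s .i, .s .h]) from rfl, show y1 = [.s .h, .s .i] ++ ([.v] ++ [.w]) from rfl,
    ev_append, ev_append, ev_append, ev_append, mul_inv_rev, mul_inv_rev, ev_v', ev_w', hiinv, mul_assoc]

theorem ev_Y2 : ev Y2 = (ev y2)⁻¹ := by
  rw [show Y2 = [.w'] ++ ([.v] ++ [.s .i, .s .h]) from rfl, show y2 = [.s .h, .s .i] ++ ([.v'] ++ [.w]) from rfl,
    ev_append, ev_append, ev_append, ev_append, mul_inv_rev, mul_inv_rev, ev_v2, ev_w', hiinv, mul_assoc]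

theorem not_y1 : ¬ PS 2 (MulAut.conj (ev y1)) := not_ps y1 Y1 ev_Y1 k1a k1b k1c (by decide +kernel)
theorem not_y2 : ¬ PS 2 (MulAut.conj (ev y2)) := not_ps y2 Y2 ev_Y2 k2a k2b k2c (by decide +kernel)

/-- reduction to `y1`, `y2` -/
theorem not_of {L : List Lt} {c s t : Bool}
    (h : eqChk ((if c then [.s .h] else []) ++ (L ++ if s then L else []) ++ (if c then [.s .h] else []))
      (if t then y2 else y1) = true) : ¬ PS 2 (MulAut.conj (ev L)) := by
  intro hP
  have h1 := eqChk_spec h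
  have hP2 : PS 2 (MulAut.conj (ev (L ++ if s then L else []))) := by
    cases s with
    | false => rwa [if_neg (by simp), List.append_nil]
    | true =>
      rw [if_pos rfl, ev_append, ← pow_two, map_pow]
      exact PS.pow hP 2
  have hP3 : PS 2 (MulAut.conj (ev ((if c then [.s .h] else []) ++ (L ++ if s then L else []) ++
      (if c then [.s .h] else [])))) := by
    cases c with
    | false => rwa [if_neg (by simp), List.append_nil, List.nil_append]
    | true =>
      rw [if_pos rfl, ev_append, ev_append, ev_s]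
      have := PS.conj hP2 (g .h)
      rwa [g_inv] at this
  rw [h1] at hP3
  cases t with
  | false => exact not_y1 hP3
  | true => exact not_y2 hP3

theorem n111 : ¬ PS 2 (MulAut.conj (ev (wd 13))) := not_of (c := false) (s := false) (t := false) (by decide +kernel)
theorem n121 : ¬ PS 2 (MulAut.conj (ev (wd 16))) := not_of (c := false) (s := false) (t := true) (by decide +kernel)
theorem n211 : ¬ PS 2 (MulAut.conj (ev (wd 22))) := not_of (c := true) (s := false) (t := false) (by decide +kernel)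
theorem n221 : ¬ PS 2 (MulAut.conj (ev (wd 25))) := not_of (c := true) (s := false) (t := true) (by decide +kernel)
theorem n112 : ¬ PS 2 (MulAut.conj (ev (wd 14))) := not_of (c := true) (s := true) (t := true) (by decide +kernel)
theorem n122 : ¬ PS 2 (MulAut.conj (ev (wd 17))) := not_of (c := true) (s := true) (t := false) (by decide +kernel)
theorem n212 : ¬ PS 2 (MulAut.conj (ev (wd 23))) := not_of (c := false) (s := true) (t := true) (by decide +kernel)
theorem n222 : ¬ PS 2 (MulAut.conj (ev (wd 26))) := not_of (c := false) (s := true) (t := false) (by decide +kernel)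

theorem cases27 : ∀ n < 27, walk nt (wd n).reverse 0 = 0 ∨ walk nt (wd n).reverse 2830 = 2830 ∨
    walk nt (wd n).reverse 2922 = 2922 ∨ n ∈ [13, 16, 22, 25, 14, 17, 23, 26] := by decide +kernel

theorem S27_cases {z : G} (hz : z ∈ S27) (hP : PS 2 (MulAut.conj z)) : ∃ p : X, z • p = p := by
  obtain ⟨n, hn, rfl⟩ := hz
  have key : ∀ q (hq : q < 3510), walk nt (wd n).reverse q = q → ∃ p : X, ev (wd n) • p = p := fun q hq h =>
    ⟨⟨q, hq⟩, Fin.ext ((val_ev _ _).trans h)⟩
  rcases cases27 n hn with h | h | h | h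
  · exact key _ (by norm_num) h
  · exact key _ (by norm_num) h
  · exact key _ (by norm_num) h
  · exfalso
    simp only [List.mem_cons, List.not_mem_nil, or_false] at h
    rcases h with rfl | rfl | rfl | rfl | rfl | rfl | rfl | rfl
    · exact n111 hP
    · exact n121 hP
    · exact n211 hP
    · exact n221 hP
    · exact n112 hP
    · exact n122 hP
    · exact n212 hP
    · exact n222 hP

theorem finite_G : Finite G := Nat.finite_of_card_ne_zero (by rw [card_G]; norm_num)

/-- **an element of order three with `PS 2` fixes a transposition** -/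
theorem exists_fix {x : G} (hx : orderOf x = 3) (hP : PS 2 (MulAut.conj x)) : ∃ p : X, x • p = p := by
  have hfin := finite_G
  have hx3 : x ^ 3 = 1 := by rw [← hx]; exact pow_orderOf_eq_one x
  rcases fix_or_move hx3 with h | ⟨p, hp⟩
  · exact h
  have h1 : adj (x • p) (x • x • p) := (adj_smul x _ _).2 hp
  have h3 : x • x • x • p = p := by
    rw [← mul_smul, ← mul_smul, ← pow_two, ← pow_succ, hx3, one_smul]
  have h2 : adj (x • x • p) p := by
    have := (adj_smul x (x • p) (x • x • p)).2 h1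
    rwa [h3] at this
  obtain ⟨k, k1, k2, k3⟩ := trans_triple hp (adj_symm h2) h1
  have hy : k * x * k⁻¹ ∈ NT := by
    refine Or.inr (Or.inl ⟨?_, ?_, ?_⟩)
    · rw [← k1, mul_smul, mul_smul, inv_smul_smul, k2]
    · rw [← k2, mul_smul, mul_smul, inv_smul_smul, k3]
    · rw [← k3, mul_smul, mul_smul, inv_smul_smul, h3, k1]
  have ho : orderOf (⟨k * x * k⁻¹, hy⟩ : NT) = 3 := by rw [Subgroup.orderOf_mk, orderOf_conj, hx]
  obtain ⟨m, hm⟩ := exists_conj_mem (K := NT) Nat.prime_three not_dvd_index ho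
  have hm2 : (m : G) * (k * x * k⁻¹) * (m : G)⁻¹ ∈ S27 := mem_subgroupOf.1 hm
  have e : (m : G) * (k * x * k⁻¹) * (m : G)⁻¹ = ((m : G) * k) * x * ((m : G) * k)⁻¹ := by group
  rw [e] at hm2
  obtain ⟨q, hq⟩ := S27_cases hm2 (PS.conj hP _)
  refine ⟨((m : G) * k)⁻¹ • q, ?_⟩
  rw [mul_smul, mul_smul] at hq
  exact eq_inv_smul_iff.2 hq

/-- the transport of `PS` -/
theorem PS.conj_equiv {K L : Type*} [Group K] [Group L] (e : K ≃* L) {k : ℕ} {x : K} (h : PS k (MulAut.conj x)) :
    PS k (MulAut.conj (e x)) := by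
  have h1 := PS.tr e h
  have h2 : Cfsg.Agent.H459.Rad.tr e (MulAut.conj x) = MulAut.conj (e x) := by
    ext y
    change e (x * e.symm y * x⁻¹) = e x * y * (e x)⁻¹
    rw [map_mul, map_mul, map_inv, e.apply_symm_apply]
  rwa [h2] at h1

/-- **elements of order three of `Fi22`** -/
theorem no_ps {x : Spor.Fi22} (hx : orderOf x = 3) (hP : PS 2 (MulAut.conj x)) : False := by
  have h1 : orderOf (E.symm x) = 3 := by rw [MulEquiv.orderOf_eq, hx]
  obtain ⟨p, hp⟩ := exists_fix h1 (PS.conj_equiv E.symm hP)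
  refine false_of_comm (d := E (R.t p)) hx hP (Cfsg.Agent.R01.Fi22Facts.mem_T_iff.2 ⟨p, rfl⟩) ?_
  have h2 := (R.smul_eq_iff_comm (E.symm x) p).1 hp
  have h3 := congrArg E h2
  rw [map_mul, map_mul, E.apply_symm_apply] at h3
  exact h3

theorem g3i_fi22 : G3i Spor.Fi22 := fun _ ha hP _ => no_ps ha hP

/-- **the row `Fi22`** -/
theorem g3_fi22 {K : Type*} [Group K] [Finite K] [IsSimpleGroup K] (h : Spor.IsoFi22 K) : G3 K := by
  obtain ⟨e⟩ := h
  refine G3.congr e ?_
  have hs : IsSimpleGroup Spor.Fi22 := Cfsg.Agent.R01.Fi22Facts.isSimple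
  have hfin : Finite Spor.Fi22 :=
    Nat.finite_of_card_ne_zero (by rw [Cfsg.Agent.R01.Fi22Facts.card]; norm_num)
  exact g3_of_inn (center_bot (by rw [Cfsg.Agent.R01.Fi22Facts.card]; norm_num))
    (Cfsg.Agent.CpAutFiFive.Fi22.inner Nat.prime_three (by norm_num)) g3i_fi22

end Cfsg.Agent.H588.SN.FiT
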